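import Groth.Prelude.Def_CohTop
import Mathlib.Algebra.Homology.DerivedCategory.Ext.ExactSequences

/-!
# The boundary map from global sections to first cohomology
-/

set_option autoImplicit false
set_option backward.isDefEq.respectTransparency false
set_option backward.isDefEq.respectTransparency.types false

universe u

open CategoryTheory CategoryTheory.Limits Opposite TopologicalSpace CategoryTheory.Abelian

namespace Groth.Agent.ZPic

variable {T : TopCat.{u}}

/-- The boundary map from global sections of the quotient. -/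
noncomputable def bd {S : ShortComplex (CohTop.Ab T)} (hS : S.ShortExact) :
    S.X₃.obj.obj (op (⊤ : Opens T)) →+ CohTop.H S.X₁ 1 :=
  (hS.extClass.postcomp _ (zero_add 1)).comp
    (Sheaf.H.equiv₀ S.X₃ (isTerminalTop : IsTerminal (⊤ : Opens T))).symm.toAddMonoidHom

theorem mem_ker_bd {S : ShortComplex (CohTop.Ab T)} (hS : S.ShortExact) (z : S.X₃.obj.obj (op (⊤ : Opens T))) :
    bd hS z = 0 ↔ ∃ m, S.g.hom.app (op (⊤ : Opens T)) m = z := by
  let hT : IsTerminal (⊤ : Opens T) := isTerminalTop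
  constructor
  · intro hz
    obtain ⟨ψ, hψ⟩ := Ext.covariant_sequence_exact₃ _ hS ((Sheaf.H.equiv₀ S.X₃ hT).symm z) (rfl : 0 + 1 = 1) hz
    refine ⟨Sheaf.H.equiv₀ S.X₂ hT ψ, ?_⟩
    refine (Sheaf.H.equiv₀_naturality hT S.g ψ).trans ?_
    rw [Sheaf.H.map_apply, hψ, AddEquiv.apply_symm_apply]
  · rintro ⟨m, rfl⟩
    show ((Sheaf.H.equiv₀ S.X₃ hT).symm _).comp hS.extClass (zero_add 1) = 0
    rw [← Sheaf.H.equiv₀_symm_naturality, Sheaf.H.map_apply, Ext.comp_assoc_of_second_deg_zero, hS.comp_extClass,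
      Ext.comp_zero]

theorem exists_bd_eq {S : ShortComplex (CohTop.Ab T)} (hS : S.ShortExact) (x : CohTop.H S.X₁ 1)
    (hx : Sheaf.H.map S.f 1 x = 0) : ∃ z, bd hS z = x := by
  obtain ⟨z, rfl⟩ := Ext.covariant_sequence_exact₁ _ hS x hx (rfl : 0 + 1 = 1)
  refine ⟨Sheaf.H.equiv₀ S.X₃ (isTerminalTop : IsTerminal (⊤ : Opens T)) z, ?_⟩
  show ((Sheaf.H.equiv₀ S.X₃ _).symm _).comp hS.extClass (zero_add 1) = _
  rw [AddEquiv.symm_apply_apply]

theorem map_bd {S : ShortComplex (CohTop.Ab T)} (hS : S.ShortExact) (z : S.X₃.obj.obj (op (⊤ : Opens T))) :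
    Sheaf.H.map S.f 1 (bd hS z) = 0 := by
  rw [Sheaf.H.map_apply]
  show (((Sheaf.H.equiv₀ S.X₃ _).symm z).comp hS.extClass (zero_add 1)).comp (Ext.mk₀ S.f) (add_zero 1) = 0
  rw [Ext.comp_assoc_of_third_deg_zero, hS.extClass_comp, Ext.comp_zero]

theorem bd_surjective {S : ShortComplex (CohTop.Ab T)} (hS : S.ShortExact) [Injective S.X₂] :
    Function.Surjective (bd hS) := fun x => exists_bd_eq hS x (Ext.eq_zero_of_injective _)

theorem bd_naturality {S S' : ShortComplex (CohTop.Ab T)} (hS : S.ShortExact) (hS' : S'.ShortExact) (f : S ⟶ S')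
    (z : S.X₃.obj.obj (op (⊤ : Opens T))) :
    bd hS' (f.τ₃.hom.app (op (⊤ : Opens T)) z) = Sheaf.H.map f.τ₁ 1 (bd hS z) := by
  rw [Sheaf.H.map_apply]
  show ((Sheaf.H.equiv₀ S'.X₃ _).symm _).comp hS'.extClass (zero_add 1) =
    (((Sheaf.H.equiv₀ S.X₃ _).symm z).comp hS.extClass (zero_add 1)).comp (Ext.mk₀ f.τ₁) (add_zero 1)
  rw [← Sheaf.H.equiv₀_symm_naturality, Sheaf.H.map_apply, Ext.comp_assoc_of_second_deg_zero,
    Ext.comp_assoc_of_third_deg_zero, ShortComplex.ShortExact.extClass_naturality hS hS' f]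

end Groth.Agent.ZPic
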