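import Groth.Agent.ZPic.Rel
import Groth.Agent.ZPic.Boundary
import Groth.Agent.InvX.Pullback
import Groth.Agent.UnitsSeq.Coh
import Groth.Agent.S0904

/-!
# Functoriality of the comparison of the Picard group with the first cohomology of units
-/

set_option autoImplicit false
set_option backward.isDefEq.respectTransparency false
set_option backward.isDefEq.respectTransparency.types false
set_option linter.style.haveILetI false

universe u

open CategoryTheory CategoryTheory.Limits AlgebraicGeometry Opposite TopologicalSpace CategoryTheory.Abelian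

namespace Groth.Agent.ZPic

open AModX InvX

variable {X Z : Scheme.{u}} (i : Z ⟶ X) (E : Ext1 X) (E₀ : Ext1 Z)

/-- Maps of extensions over a morphism of schemes. -/
structure Ext1Hom where
  /-- The middle map. -/
  m : E.M ⟶ (CohTop.push i.base).obj E₀.M
  /-- The map of quotients. -/
  ψ : E.Q ⟶ (CohTop.push i.base).obj E₀.Q
  comm_i : E.i ≫ m = UnitsSh.comap i ≫ (CohTop.push i.base).map E₀.i
  comm_q : E.q ≫ ψ = m ≫ (CohTop.push i.base).map E₀.q

variable {i E E₀} (F : Ext1Hom i E E₀)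

/-- The map on sections of the middle sheaves. -/
noncomputable abbrev Ext1Hom.mApp (U : X.Opens) : E.M.obj.obj (op U) →+ E₀.M.obj.obj (op (i ⁻¹ᵁ U)) :=
  (F.m.hom.app (op U)).hom

/-- The map on sections of the quotients. -/
noncomputable abbrev Ext1Hom.ψApp (U : X.Opens) : E.Q.obj.obj (op U) →+ E₀.Q.obj.obj (op (i ⁻¹ᵁ U)) :=
  (F.ψ.hom.app (op U)).hom

theorem Ext1Hom.mApp_inc {U : X.Opens} (g : (Γ(X, U))ˣ) :
    F.mApp U (E.inc g) = E₀.inc (Units.map (i.app U).hom.toMonoidHom g) :=
  congrArg (fun φ : UnitsSh.unitsAb X ⟶ (CohTop.push i.base).obj E₀.M =>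
    (φ.hom.app (op U)).hom (UnitsSh.sectOfUnit g)) F.comm_i

theorem Ext1Hom.mApp_res {U V : X.Opens} (h : V ≤ U) (y : E.M.obj.obj (op U)) :
    F.mApp V (E.res h y) = E₀.res (i.preimage_mono h) (F.mApp U y) :=
  ConcreteCategory.congr_hom (F.m.hom.naturality (homOfLE h).op) y

theorem Ext1Hom.qs_mApp {U : X.Opens} (y : E.M.obj.obj (op U)) :
    E₀.qs (i ⁻¹ᵁ U) (F.mApp U y) = F.ψApp U (E.qs U y) :=
  (congrArg (fun φ : E.M ⟶ (CohTop.push i.base).obj E₀.Q => (φ.hom.app (op U)).hom y) F.comm_q).symm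

/-- Related pairs pull back. -/
theorem Rel.pullback {z : E.Q.obj.obj (op (⊤ : X.Opens))} {L : X.Modules} (h : Rel E z L) :
    Rel E₀ (F.ψApp ⊤ z) ((Scheme.Modules.pullback i).obj L) := by
  obtain ⟨ι, U, hU, e, y, he, hy, hg⟩ := h
  refine ⟨ι, fun a => i ⁻¹ᵁ U a, fun p => hU (i p), fun a => pullElt i (e a), fun a => F.mApp (U a) (y a),
    fun a => isFrame_pullElt i (he a), fun a => ?_, fun a b W ha hb => ?_⟩
  · rw [F.qs_mApp, hy]
    exact ConcreteCategory.congr_hom (F.ψ.hom.naturality (homOfLE (le_top : U a ≤ ⊤)).op) z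
  · obtain ⟨g, hg1, hg2⟩ := hg a b (U a ⊓ U b) inf_le_left inf_le_right
    have hW : W ≤ i ⁻¹ᵁ (U a ⊓ U b) := fun w hw => ⟨ha hw, hb hw⟩
    refine ⟨Units.map (resR hW).toMonoidHom (Units.map (i.app (U a ⊓ U b)).hom.toMonoidHom g), ?_, ?_⟩
    · have h1 := congrArg (fun x => res ((Scheme.Modules.pullback i).obj L) hW (pullElt i x)) hg1
      simp only [pullElt_smul, ← res_pullElt, res_smul, res_res] at h1
      exact h1
    · have h2 := congrArg (fun x => E₀.res hW (F.mApp _ x)) hg2
      simp only [map_sub, F.mApp_res, E₀.res_res, F.mApp_inc, E₀.res_inc] at h2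
      exact h2

variable (X) in
/-- An extension with injective middle sheaf. -/
theorem exists_injective_ext : ∃ E : Ext1 X, Injective E.M ∧ Injective E.M.obj := by
  let S := ShortComplex.mk (Injective.ι (UnitsSh.unitsAb X)) (cokernel.π _) (cokernel.condition (Injective.ι (UnitsSh.unitsAb X)))
  have hS : S.ShortExact := { exact := ShortComplex.exact_of_g_is_cokernel _ (cokernelIsCokernel _) }
  haveI hI : Injective S.X₂ := inferInstanceAs (Injective (Injective.under (UnitsSh.unitsAb X)))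
  exact ⟨⟨S.X₂, S.X₃, S.f, S.g, S.zero, hS⟩, hI,
    Injective.injective_of_adjoint (sheafificationAdjunction (Opens.grothendieckTopology X.toTopCat) AddCommGrpCat.{u}) S.X₂⟩

/-- The sequence of an extension. -/
abbrev Ext1.seq (E : Ext1 X) : ShortComplex (CohTop.Ab X.toTopCat) := ShortComplex.mk E.i E.q E.zero

variable (i) in
theorem push_shortExact [IsClosedImmersion i] (E₀ : Ext1 Z) :
    (E₀.seq.map (CohTop.push i.base)).ShortExact := by
  haveI := Groth.Agent.ClosedEmb.preservesFiniteColimits_push (UnitsSeq.isClosedEmbedding_base i)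
  haveI := Groth.Agent.LerayDegen.push_left_exact i.base
  exact E₀.shortExact.map_of_exact (CohTop.push i.base)

variable (i E E₀) in
theorem nonempty_ext1Hom [Injective ((CohTop.push i.base).obj E₀.M)] : Nonempty (Ext1Hom i E E₀) := by
  haveI : Mono E.seq.f := E.shortExact.mono_f
  let m := Injective.factorThru (UnitsSh.comap i ≫ (CohTop.push i.base).map E₀.i) E.i
  have hm : E.i ≫ m = _ := Injective.comp_factorThru _ _
  have hw : E.i ≫ m ≫ (CohTop.push i.base).map E₀.q = 0 := by
    rw [reassoc_of% hm, ← Functor.map_comp, E₀.zero, Functor.map_zero, comp_zero]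
  exact ⟨⟨m, E.shortExact.gIsCokernel.desc (CokernelCofork.ofπ _ hw), hm,
    E.shortExact.gIsCokernel.fac (CokernelCofork.ofπ _ hw) WalkingParallelPair.one⟩⟩

theorem isInvertible_pull (r : Z ⟶ X) {L : X.Modules} (hL : PicF.IsInvertible L) :
    PicF.IsInvertible ((Scheme.Modules.pullback r).obj L) := by
  refine isInvertible_of_frames fun z => ?_
  obtain ⟨U, hU, e, he⟩ := InvX.exists_frame hL (r z)
  exact ⟨r ⁻¹ᵁ U, hU, pullElt r e, isFrame_pullElt r he⟩

/-- The map of short complexes of an extension map. -/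
noncomputable def Ext1Hom.toSeq : E.seq ⟶ E₀.seq.map (CohTop.push i.base) :=
  ShortComplex.homMk (UnitsSh.comap i) F.m F.ψ F.comm_i.symm F.comm_q.symm

section Iso

variable [PicGrp.Law X]

theorem exists_addEquiv_of_surjective {H : Type u} [AddCommGroup H] [Injective E.M.obj]
    (h : E.Q.obj.obj (op (⊤ : X.Opens)) →+ H) (hs : Function.Surjective h)
    (hk : ∀ z, h z = 0 ↔ ∃ m, E.qs ⊤ m = z) :
    ∃ e : Additive (PicLoc.PicSet X) ≃+ H, ∀ z, e (picHom E z) = h z := by
  have hker : (picHom E).ker = h.ker := by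
    ext z
    rw [mem_ker_picHom, AddMonoidHom.mem_range, AddMonoidHom.mem_ker, hk]
  let e₁ := QuotientAddGroup.quotientKerEquivOfSurjective (picHom E) (picHom_surjective E)
  let e₂ := QuotientAddGroup.quotientAddEquivOfEq hker
  let e₃ := QuotientAddGroup.quotientKerEquivOfSurjective h hs
  refine ⟨(e₁.symm.trans e₂).trans e₃, fun z => ?_⟩
  have h1 : e₁.symm (picHom E z) = QuotientAddGroup.mk z := e₁.symm_apply_eq.2 rfl
  show e₃ (e₂ (e₁.symm (picHom E z))) = h z
  rw [h1]
  rfl

/-- The Picard groups of both schemes and first cohomology, compatibly with pullback. -/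
theorem exists_pic_equivs [PicGrp.Law Z] [IsClosedImmersion i] (hi : PicGrp.PullMul i) :
    ∃ (e : Additive (PicLoc.PicSet X) ≃+ CohTop.H (UnitsSh.unitsAb X) 1)
      (e₀ : Additive (PicLoc.PicSet Z) ≃+ CohTop.H ((CohTop.push i.base).obj (UnitsSh.unitsAb Z)) 1),
      ∀ c : PicLoc.PicSet X, e₀ (Additive.ofMul (PicGrp.pullHom i hi c)) =
        Sheaf.H.map (UnitsSh.comap i) 1 (e (Additive.ofMul c)) := by
  obtain ⟨E, hEM, hE⟩ := exists_injective_ext X
  obtain ⟨E₀, hE₀M, hE₀⟩ := exists_injective_ext Z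
  haveI := hEM
  haveI := hE
  haveI := hE₀
  haveI : Injective ((CohTop.push i.base).obj E₀.M) := @S0904.result _ _ i.base E₀.M hE₀M
  obtain ⟨F⟩ := nonempty_ext1Hom i E E₀
  have hS : E.seq.ShortExact := E.shortExact
  have hS₀ := push_shortExact i E₀
  haveI : Injective E.seq.X₂ := hEM
  haveI : Injective (E₀.seq.map (CohTop.push i.base)).X₂ := inferInstanceAs (Injective ((CohTop.push i.base).obj E₀.M))
  obtain ⟨e, he⟩ := exists_addEquiv_of_surjective (E := E) (bd hS) (bd_surjective hS) (mem_ker_bd hS)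
  obtain ⟨e₀, he₀⟩ := exists_addEquiv_of_surjective (X := Z) (E := E₀) (bd hS₀) (bd_surjective hS₀) (mem_ker_bd hS₀)
  refine ⟨e, e₀, fun c => ?_⟩
  obtain ⟨z, hz⟩ := picHom_surjective E (Additive.ofMul c)
  have hc : picFun E z = c := congrArg Additive.toMul hz
  have hp : PicGrp.pullHom i hi c = picFun E₀ (F.ψApp ⊤ z) := by
    rw [picFun_eq E₀ (isInvertible_pull i (exists_rel E z).choose_spec.1)
      ((exists_rel E z).choose_spec.2.pullback F), ← hc]
    rfl
  rw [hp, ← hz]
  show e₀ (picHom E₀ (F.ψApp ⊤ z)) = _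
  refine (he₀ (F.ψApp ⊤ z)).trans ?_
  rw [he]
  exact bd_naturality hS hS₀ F.toSeq z

end Iso

end Groth.Agent.ZPic
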