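import Groth.Agent.InvX.Tensor
import Groth.Agent.InvX.GenLocusPull
import Groth.Agent.H23.CocycleMod
import Groth.Agent.BigSiteLib.FppfDesc.LocExact
import Groth.Prelude.Def_UnitsSh

/-!
# Extensions by the sheaf of units on a scheme
-/

set_option autoImplicit false
set_option backward.isDefEq.respectTransparency false
set_option backward.isDefEq.respectTransparency.types false
set_option linter.style.haveILetI false

universe u

open CategoryTheory CategoryTheory.Limits AlgebraicGeometry Opposite TopologicalSpace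

namespace Groth.Agent.ZPic

open Groth.Agent.AModX

variable {X : Scheme.{u}}

/-- An extension by the sheaf of units. -/
structure Ext1 (X : Scheme.{u}) where
  /-- The middle sheaf. -/
  M : CohTop.Ab X.toTopCat
  /-- The quotient. -/
  Q : CohTop.Ab X.toTopCat
  /-- The inclusion. -/
  i : UnitsSh.unitsAb X ⟶ M
  /-- The projection. -/
  q : M ⟶ Q
  zero : i ≫ q = 0
  shortExact : (ShortComplex.mk i q zero).ShortExact

variable (E : Ext1 X)

/-- Restriction in the middle sheaf. -/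
noncomputable abbrev Ext1.res {W W' : X.Opens} (h : W ≤ W') : E.M.obj.obj (op W') →+ E.M.obj.obj (op W) :=
  (E.M.obj.map (homOfLE h).op).hom

/-- Restriction in the quotient. -/
noncomputable abbrev Ext1.resQ {W W' : X.Opens} (h : W ≤ W') : E.Q.obj.obj (op W') →+ E.Q.obj.obj (op W) :=
  (E.Q.obj.map (homOfLE h).op).hom

/-- The projection on sections. -/
noncomputable abbrev Ext1.qs (W : X.Opens) : E.M.obj.obj (op W) →+ E.Q.obj.obj (op W) :=
  (E.q.hom.app (op W)).hom

/-- A unit as a section of the middle sheaf. -/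
noncomputable def Ext1.inc {W : X.Opens} (u : (Γ(X, W))ˣ) : E.M.obj.obj (op W) :=
  (E.i.hom.app (op W)).hom (UnitsSh.sectOfUnit u)

theorem Ext1.inc_mul {W : X.Opens} (u v : (Γ(X, W))ˣ) : E.inc (u * v) = E.inc u + E.inc v :=
  (congrArg (E.i.hom.app (op W)).hom (show UnitsSh.sectOfUnit (O := X.presheaf) (u * v) =
    UnitsSh.sectOfUnit u + UnitsSh.sectOfUnit v from rfl)).trans (map_add _ _ _)

theorem Ext1.inc_injective {W : X.Opens} : Function.Injective (E.inc (W := W)) := fun a b h => by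
  haveI : Mono E.i := E.shortExact.mono_f
  exact congrArg UnitsSh.unitOfSect (BigSiteLib.FppfDesc.app_injective_of_mono E.i W h)

theorem Ext1.qs_inc {W : X.Opens} (u : (Γ(X, W))ˣ) : E.qs W (E.inc u) = 0 :=
  congrArg (fun φ : UnitsSh.unitsAb X ⟶ E.Q => (φ.hom.app (op W)).hom (UnitsSh.sectOfUnit u)) E.zero

theorem Ext1.exists_inc {W : X.Opens} (y : E.M.obj.obj (op W)) (hy : E.qs W y = 0) :
    ∃ u : (Γ(X, W))ˣ, E.inc u = y := by
  let e := E.shortExact.fIsKernel.conePointUniqueUpToIso (limit.isLimit _)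
  obtain ⟨c, hc⟩ := BigSiteLib.FppfDesc.exists_kernel_section E.q y hy
  refine ⟨UnitsSh.unitOfSect (e.inv.hom.app (op W) c), ?_⟩
  have h1 : e.inv ≫ E.i = kernel.ι E.q :=
    E.shortExact.fIsKernel.conePointUniqueUpToIso_inv_comp (limit.isLimit _) WalkingParallelPair.zero
  exact (congrArg (fun φ : kernel E.q ⟶ E.M => φ.hom.app (op W) c) h1).trans hc

theorem Ext1.res_inc {W W' : X.Opens} (h : W ≤ W') (u : (Γ(X, W'))ˣ) :
    E.res h (E.inc u) = E.inc (Units.map (resR h).toMonoidHom u) :=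
  (ConcreteCategory.congr_hom (E.i.hom.naturality (homOfLE h).op) (UnitsSh.sectOfUnit u)).symm

theorem Ext1.qs_res {W W' : X.Opens} (h : W ≤ W') (y : E.M.obj.obj (op W')) :
    E.qs W (E.res h y) = E.resQ h (E.qs W' y) :=
  ConcreteCategory.congr_hom (E.q.hom.naturality (homOfLE h).op) y

theorem Ext1.res_res {W W' W'' : X.Opens} (h : W' ≤ W) (h' : W'' ≤ W') (y : E.M.obj.obj (op W)) :
    E.res h' (E.res h y) = E.res (h'.trans h) y :=
  (ConcreteCategory.congr_hom (E.M.obj.map_comp (homOfLE h).op (homOfLE h').op) y).symm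

theorem Ext1.resQ_resQ {W W' W'' : X.Opens} (h : W' ≤ W) (h' : W'' ≤ W') (y : E.Q.obj.obj (op W)) :
    E.resQ h' (E.resQ h y) = E.resQ (h'.trans h) y :=
  (ConcreteCategory.congr_hom (E.Q.obj.map_comp (homOfLE h).op (homOfLE h').op) y).symm

theorem le_iSup_of_cover {ι : Type u} (U : ι → X.Opens) (hU : ∀ p, ∃ a, p ∈ U a) : (⊤ : X.Opens) ≤ iSup U :=
  fun p _ => Opens.mem_iSup.2 (hU p)

/-- Glue sections of the middle sheaf. -/
theorem Ext1.exists_glue {ι : Type u} (U : ι → X.Opens) (hU : ∀ p, ∃ a, p ∈ U a)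
    (y : ∀ a, E.M.obj.obj (op (U a)))
    (hy : ∀ a b, E.res (inf_le_left : U a ⊓ U b ≤ U a) (y a) = E.res (inf_le_right : U a ⊓ U b ≤ U b) (y b)) :
    ∃ x : E.M.obj.obj (op ⊤), ∀ a, E.res le_top x = y a := by
  obtain ⟨x, hx, -⟩ := TopCat.Sheaf.existsUnique_gluing' E.M U ⊤ (fun a => homOfLE le_top) (le_iSup_of_cover U hU) y
    fun a b => hy a b
  exact ⟨x, hx⟩

/-- Glue sections of the quotient. -/
theorem Ext1.exists_glueQ {ι : Type u} (U : ι → X.Opens) (hU : ∀ p, ∃ a, p ∈ U a)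
    (y : ∀ a, E.Q.obj.obj (op (U a)))
    (hy : ∀ a b, E.resQ (inf_le_left : U a ⊓ U b ≤ U a) (y a) = E.resQ (inf_le_right : U a ⊓ U b ≤ U b) (y b)) :
    ∃ x : E.Q.obj.obj (op ⊤), ∀ a, E.resQ le_top x = y a := by
  obtain ⟨x, hx, -⟩ := TopCat.Sheaf.existsUnique_gluing' E.Q U ⊤ (fun a => homOfLE le_top) (le_iSup_of_cover U hU) y
    fun a b => hy a b
  exact ⟨x, hx⟩

theorem Ext1.extQ {ι : Type u} (U : ι → X.Opens) (hU : ∀ p, ∃ a, p ∈ U a) (s t : E.Q.obj.obj (op ⊤))
    (h : ∀ a, E.resQ (le_top : U a ≤ ⊤) s = E.resQ le_top t) : s = t :=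
  TopCat.Sheaf.eq_of_locally_eq' E.Q U ⊤ (fun a => homOfLE le_top) (le_iSup_of_cover U hU) s t h

/-- Sections of the quotient lift on an open cover. -/
theorem exists_lift_opens (z : E.Q.obj.obj (op ⊤)) :
    ∃ (ι : Type u) (U : ι → X.Opens) (y : ∀ a, E.M.obj.obj (op (U a))),
      (∀ p, ∃ a, p ∈ U a) ∧ ∀ a, E.qs _ (y a) = E.resQ le_top z := by
  haveI : Epi E.q := E.shortExact.epi_g
  have hloc : Presheaf.IsLocallySurjective (Opens.grothendieckTopology X.toTopCat) E.q.hom :=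
    (Sheaf.isLocallySurjective_iff_epi' AddCommGrpCat.{u} E.q).2 inferInstance
  have key : ∀ p : X, ∃ W : X.Opens, p ∈ W ∧ ∃ y, E.qs W y = E.resQ le_top z := by
    intro p
    obtain ⟨W, k, ⟨y, hy⟩, hpW⟩ := hloc.imageSieve_mem (U := ⊤) z p trivial
    exact ⟨W, hpW, y, hy⟩
  choose W hW y hy using key
  exact ⟨X, W, y, fun p => ⟨p, hW p⟩, hy⟩

end Groth.Agent.ZPic
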