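import Groth.Agent.ZPic.Basic
import Groth.Prelude.Def_PicGrp

/-!
# Invertible modules and sections of the quotient of an extension by units
-/

set_option autoImplicit false
set_option backward.isDefEq.respectTransparency false
set_option backward.isDefEq.respectTransparency.types false
set_option linter.style.haveILetI false

universe u

open CategoryTheory CategoryTheory.Limits AlgebraicGeometry Opposite TopologicalSpace CategoryTheory.Abelian

namespace Groth.Agent.ZPic

open AModX InvX H23

variable {X : Scheme.{u}}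

/-- A module with compatible frames on a cover is trivial. -/
theorem nonempty_iso_of_compatible_frames {L : X.Modules} {ι : Type u} (U : ι → X.Opens) (hU : ∀ p, ∃ a, p ∈ U a)
    (n : ∀ a, Γ(L, U a)) (hn : ∀ a, IsFrame (n a))
    (hc : ∀ a b, res L (inf_le_left : U a ⊓ U b ≤ U a) (n a) = res L (inf_le_right : U a ⊓ U b ≤ U b) (n b)) :
    Nonempty (L ≅ Coh.structureModule X) := by
  let o : ∀ a, Γ(Coh.structureModule X, U a) := fun a => show Γ(Coh.structureModule X, U a) from (1 : Γ(X, U a))
  have ho : ∀ a, IsFrame (o a) := fun a V h => by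
    have : (fun r : Γ(X, V) => r • res (Coh.structureModule X) h (o a)) =
        fun r => (show Γ(Coh.structureModule X, V) from r) := funext fun r => by
      show r * resR h 1 = r
      rw [map_one, mul_one]
    rw [this]
    exact Function.bijective_id
  have hone : ∀ (a : ι) (W : X.Opens) (h : W ≤ U a),
      res (Coh.structureModule X) h (o a) = (show Γ(Coh.structureModule X, W) from (1 : Γ(X, W))) :=
    fun a W h => map_one (resR h)
  have hcW : ∀ a b (W : X.Opens) (ha : W ≤ U a) (hb : W ≤ U b), res L hb (n b) = res L ha (n a) := by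
    intro a b W ha hb
    have h1 := congrArg (res L (le_inf ha hb)) (hc a b)
    rw [res_res, res_res] at h1
    exact h1.symm
  have h₁ : ∀ (a b : ι) (W : X.Opens) (ha : W ≤ U a) (hb : W ≤ U b) (g : Γ(X, W)),
      res L hb (n b) = g • res L ha (n a) →
        res (Coh.structureModule X) hb (o b) = g • res (Coh.structureModule X) ha (o a) := by
    intro a b W ha hb g hg
    rw [hcW a b W ha hb] at hg
    rw [show g = 1 from (hn a).coord_unique ha (by rw [one_smul, ← hg]), one_smul, hone, hone]
  have h₂ : ∀ (a b : ι) (W : X.Opens) (ha : W ≤ U a) (hb : W ≤ U b) (g : Γ(X, W)),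
      res (Coh.structureModule X) hb (o b) = g • res (Coh.structureModule X) ha (o a) →
        res L hb (n b) = g • res L ha (n a) := by
    intro a b W ha hb g hg
    rw [show g = 1 from (ho a).coord_unique ha (by rw [one_smul, ← hg, hone, hone]), one_smul, hcW a b W ha hb]
  exact ⟨⟨InvX.ofFrames (e := n) (n := o) hU hn h₁, InvX.ofFrames (e := o) (n := n) hU ho h₂,
    InvX.hom_ext_of_frames U hU n hn fun a => by
      show (InvX.ofFrames hU ho h₂).app (U a) ((InvX.ofFrames hU hn h₁).app (U a) (n a)) = n a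
      rw [InvX.ofFrames_app, InvX.ofFrames_app],
    InvX.hom_ext_of_frames U hU o ho fun a => by
      show (InvX.ofFrames hU hn h₁).app (U a) ((InvX.ofFrames hU ho h₂).app (U a) (o a)) = o a
      rw [InvX.ofFrames_app, InvX.ofFrames_app]⟩⟩

variable (E : Ext1 X)

/-- Local lifts of a section of the quotient differing by the transition functions of frames of a module. -/
def Rel (z : E.Q.obj.obj (op (⊤ : X.Opens))) (L : X.Modules) : Prop :=
  ∃ (ι : Type u) (U : ι → X.Opens) (_ : ∀ p, ∃ a, p ∈ U a) (e : ∀ a, Γ(L, U a))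
    (y : ∀ a, E.M.obj.obj (op (U a))), (∀ a, InvX.IsFrame (e a)) ∧
      (∀ a, E.qs _ (y a) = E.resQ (le_top : U a ≤ ⊤) z) ∧
      ∀ (a b : ι) (W : X.Opens) (ha : W ≤ U a) (hb : W ≤ U b), ∃ g : (Γ(X, W))ˣ,
        res L ha (e a) = (g : Γ(X, W)) • res L hb (e b) ∧
          E.res ha (y a) - E.res hb (y b) = E.inc g

theorem Rel.of_iso {z : E.Q.obj.obj (op (⊤ : X.Opens))} {L L' : X.Modules} (φ : L ≅ L') (h : Rel E z L) :
    Rel E z L' := by
  obtain ⟨ι, U, hU, e, y, he, hy, hg⟩ := h
  refine ⟨ι, U, hU, fun a => φ.hom.app (U a) (e a), y, fun a => (he a).map_iso φ, hy, fun a b W ha hb => ?_⟩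
  obtain ⟨g, hg1, hg2⟩ := hg a b W ha hb
  exact ⟨g, by rw [← app_res, ← app_res, hg1, Scheme.Modules.Hom.app_smul], hg2⟩

/-- Every section of the quotient is related to an invertible module. -/
theorem exists_rel (z : E.Q.obj.obj (op (⊤ : X.Opens))) : ∃ L : X.Modules, PicF.IsInvertible L ∧ Rel E z L := by
  obtain ⟨ι, U, y, hU, hy⟩ := exists_lift_opens E z
  choose γ hγ using fun a b => E.exists_inc
    (E.res ((inf_le_left : U a ⊓ U b ≤ U a)) (y a) - E.res ((inf_le_right : U a ⊓ U b ≤ U b)) (y b))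
    (by rw [map_sub, E.qs_res, E.qs_res, hy, hy, E.resQ_resQ, E.resQ_resQ, sub_self])
  let g : ∀ a b, (Γ(X, U a ⊓ U b))ˣ := fun a b => γ a b
  have hg : ∀ a b (W : X.Opens) (ha : W ≤ U a) (hb : W ≤ U b),
      E.inc (Units.map (resR (le_inf ha hb)).toMonoidHom (g a b)) =
        E.res ha (y a) - E.res hb (y b) := by
    intro a b W ha hb
    rw [← E.res_inc, hγ, map_sub, E.res_res, E.res_res]
  let t : CocycleMod.Cocycle U :=
    { g := g
      trans := fun i j k W hi hj hk => by
        refine congrArg Units.val (a₁ := Units.map (resR (le_inf hi hk)).toMonoidHom (g i k))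
          (a₂ := Units.map (resR (le_inf hj hk)).toMonoidHom (g j k) *
            Units.map (resR (le_inf hi hj)).toMonoidHom (g i j)) (E.inc_injective ?_)
        show E.inc _ = E.inc _
        rw [E.inc_mul, hg i k W hi hk, hg j k W hj hk, hg i j W hi hj]
        abel }
  have hcov : iSup U = ⊤ := top_le_iff.1 fun p _ => Opens.mem_iSup.2 (hU p)
  refine ⟨_, CocycleMod.isInvertible t hcov, ι, U, hU, CocycleMod.frame t, y, CocycleMod.isFrame_frame t, hy,
    fun a b W ha hb => ⟨Units.map (resR (le_inf ha hb)).toMonoidHom (g a b), ?_, (hg a b W ha hb).symm⟩⟩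
  have h1 := congrArg (res (CocycleMod.mod t) (le_inf ha hb)) (CocycleMod.res_frame t a b)
  rw [res_smul, res_res, res_res] at h1
  exact h1

/-- Related pairs multiply. -/
theorem Rel.add {z z' : E.Q.obj.obj (op (⊤ : X.Opens))} {L L' : X.Modules} (h : Rel E z L) (h' : Rel E z' L') :
    Rel E (z + z') (CohB1.tensorMod L L') := by
  obtain ⟨ι, U, hU, e, y, he, hy, hg⟩ := h
  obtain ⟨ι', U', hU', e', y', he', hy', hg'⟩ := h'
  refine ⟨ι × ι', fun p => U p.1 ⊓ U' p.2, fun p => ?_,
    fun p => InvX.tmul (res L inf_le_left (e p.1)) (res L' inf_le_right (e' p.2)),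
    fun p => E.res (inf_le_left) (y p.1) + E.res (inf_le_right) (y' p.2),
    fun p => InvX.isFrame_tmul ((he p.1).res _) ((he' p.2).res _), fun p => ?_, fun p q W hp hq => ?_⟩
  · obtain ⟨a, ha⟩ := hU p
    obtain ⟨b, hb⟩ := hU' p
    exact ⟨(a, b), ha, hb⟩
  · rw [map_add, map_add, E.qs_res, E.qs_res, hy, hy', E.resQ_resQ, E.resQ_resQ]
  · obtain ⟨g, hg1, hg2⟩ := hg p.1 q.1 W (hp.trans inf_le_left) (hq.trans inf_le_left)
    obtain ⟨g', hg1', hg2'⟩ := hg' p.2 q.2 W (hp.trans inf_le_right) (hq.trans inf_le_right)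
    refine ⟨g * g', ?_, ?_⟩
    · rw [InvX.res_tmul, InvX.res_tmul, res_res, res_res, res_res, res_res, hg1, hg1', InvX.tmul_smul_left,
        InvX.tmul_smul_right, ← mul_smul]
      rfl
    · rw [E.inc_mul, ← hg2, ← hg2', map_add, map_add, E.res_res, E.res_res, E.res_res, E.res_res]
      abel

/-- A module related to a section with a global lift is trivial. -/
theorem Rel.trivial_of_lift {z : E.Q.obj.obj (op (⊤ : X.Opens))} {L : X.Modules} (h : Rel E z L)
    (m : E.M.obj.obj (op (⊤ : X.Opens))) (hm : E.qs _ m = z) : Nonempty (L ≅ Coh.structureModule X) := by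
  obtain ⟨ι, U, hU, e, y, he, hy, hg⟩ := h
  choose γ hγ using fun a => E.exists_inc (y a - E.res (le_top : U a ≤ ⊤) m) (by
    rw [map_sub, E.qs_res, hy, hm, sub_self])
  let u : ∀ a, (Γ(X, U a))ˣ := fun a => γ a
  refine nonempty_iso_of_compatible_frames U hU (fun a => ((↑(u a)⁻¹ : Γ(X, U a))) • e a)
    (fun a => (he a).isUnit_smul (u a)⁻¹.isUnit) fun a b => ?_
  obtain ⟨g, hg1, hg2⟩ := hg a b (U a ⊓ U b) inf_le_left inf_le_right
  have hu : g * Units.map (resR (inf_le_right : U a ⊓ U b ≤ U b)).toMonoidHom (u b) =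
      Units.map (resR (inf_le_left : U a ⊓ U b ≤ U a)).toMonoidHom (u a) := by
    apply E.inc_injective
    show E.inc _ = E.inc _
    rw [E.inc_mul, ← E.res_inc, ← E.res_inc,
      hγ, hγ, ← hg2, map_sub, map_sub, E.res_res, E.res_res]
    abel
  rw [res_smul, res_smul, hg1, ← mul_smul]
  congr 1
  have e1 := congrArg (fun v => (v⁻¹ : (Γ(X, U a ⊓ U b))ˣ) * g) hu
  simp only [mul_inv_rev, inv_mul_cancel_right] at e1
  exact (congrArg Units.val e1).symm

/-- A section related to the structure sheaf lifts globally. -/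
theorem Rel.exists_lift {z : E.Q.obj.obj (op (⊤ : X.Opens))} {L : X.Modules} (h : Rel E z L)
    (φ : L ≅ Coh.structureModule X) : ∃ m, E.qs ⊤ m = z := by
  obtain ⟨ι, U, hU, e, y, he, hy, hg⟩ := h
  let v : ∀ a, Γ(X, U a) := fun a => φ.hom.app (U a) (e a)
  have hvu : ∀ a, IsUnit (v a) := fun a => by
    obtain ⟨r, hr⟩ := (he a).exists_coord le_rfl (φ.inv.app (U a) (1 : Γ(X, U a)))
    rw [res_self] at hr
    have h1 := congrArg (φ.hom.app (U a)) hr
    rw [Scheme.Modules.Hom.app_smul] at h1
    have h2 : φ.hom.app (U a) (φ.inv.app (U a) (1 : Γ(X, U a))) = (1 : Γ(X, U a)) := by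
      have := congrArg (fun k : Coh.structureModule X ⟶ Coh.structureModule X => k.app (U a) (1 : Γ(X, U a))) φ.inv_hom_id
      exact this
    rw [h2] at h1
    have h3 : (1 : Γ(X, U a)) = r * v a := h1
    exact IsUnit.of_mul_eq_one r (by rw [mul_comm]; exact h3.symm)
  let u : ∀ a, (Γ(X, U a))ˣ := fun a => (hvu a).unit
  let y' : ∀ a, E.M.obj.obj (op (U a)) := fun a => y a - E.inc (u a)
  have hcompat : ∀ a b, E.res (inf_le_left : U a ⊓ U b ≤ U a) (y' a) =
      E.res (inf_le_right : U a ⊓ U b ≤ U b) (y' b) := by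
    intro a b
    obtain ⟨g, hg1, hg2⟩ := hg a b (U a ⊓ U b) inf_le_left inf_le_right
    have hu : Units.map (resR (inf_le_left : U a ⊓ U b ≤ U a)).toMonoidHom (u a) =
        g * Units.map (resR (inf_le_right : U a ⊓ U b ≤ U b)).toMonoidHom (u b) := by
      apply Units.ext
      have h1 := congrArg (φ.hom.app (U a ⊓ U b)) hg1
      rw [Scheme.Modules.Hom.app_smul, app_res, app_res] at h1
      exact h1
    refine sub_eq_zero.1 ?_
    simp only [y', map_sub, E.res_inc]
    rw [hu, E.inc_mul, ← hg2]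
    abel
  obtain ⟨x, hx⟩ := E.exists_glue U hU y' hcompat
  refine ⟨x, E.extQ U hU _ _ fun a => ?_⟩
  rw [← E.qs_res, hx a, map_sub, hy, E.qs_inc, sub_zero]

/-- For an extension with injective middle sheaf every invertible module is related to a section of the quotient. -/
theorem exists_rel_of_invertible [Injective E.M.obj] (L : X.Modules) (hL : PicF.IsInvertible L) :
    ∃ z, Rel E z L := by
  classical
  choose U hxU e he using fun x => InvX.exists_frame hL x
  have hU : ∀ p : X, ∃ a, p ∈ U a := fun p => ⟨p, hxU p⟩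
  choose g₀ hg₀ using fun (a b : X) =>
    (he b).exists_coord (inf_le_right : U a ⊓ U b ≤ U b) (res L (inf_le_left : U a ⊓ U b ≤ U a) (e a))
  have hgW : ∀ a b (W : X.Opens) (ha : W ≤ U a) (hb : W ≤ U b),
      res L ha (e a) = resR (le_inf ha hb) (g₀ a b) • res L hb (e b) := fun a b W ha hb => by
    have h1 := congrArg (res L (le_inf ha hb)) (hg₀ a b)
    rw [res_smul, res_res, res_res] at h1
    exact h1
  have hgu : ∀ a b, g₀ a b * resR (le_inf inf_le_right inf_le_left : U a ⊓ U b ≤ U b ⊓ U a) (g₀ b a) = 1 := fun a b =>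
    (he a).coord_unique (inf_le_left : U a ⊓ U b ≤ U a) (by
      rw [one_smul, mul_smul, ← hgW b a (U a ⊓ U b) inf_le_right inf_le_left]
      exact (hg₀ a b).symm)
  let g : ∀ a b, (Γ(X, U a ⊓ U b))ˣ := fun a b => Units.mk _ _ (hgu a b) (by rw [mul_comm]; exact hgu a b)
  have htrans : ∀ a b c (W : X.Opens) (ha : W ≤ U a) (hb : W ≤ U b) (hc : W ≤ U c),
      Units.map (resR (le_inf ha hc)).toMonoidHom (g a c) =
        Units.map (resR (le_inf ha hb)).toMonoidHom (g a b) * Units.map (resR (le_inf hb hc)).toMonoidHom (g b c) :=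
    fun a b c W ha hb hc => Units.ext ((he c).coord_unique hc (by
      show resR _ (g₀ a c) • _ = (resR _ (g₀ a b) * resR _ (g₀ b c)) • _
      rw [mul_smul, ← hgW b c W hb hc, ← hgW a b W ha hb, ← hgW a c W ha hc]))
  -- a primitive in the injective sheaf
  let P := E.M.obj
  let Q : (Opens X)ᵒᵖ ⥤ AddCommGrpCat.{u} :=
    { obj := fun V => AddCommGrpCat.of (∀ W : X.Opens, (W ⟶ V.unop) → P.obj (op W))
      map := fun f => AddCommGrpCat.ofHom
        { toFun := fun x W h => x W (h ≫ f.unop)
          map_zero' := rfl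
          map_add' := fun _ _ => rfl }
      map_id := fun V => rfl
      map_comp := fun f g => rfl }
  let j : P ⟶ Q :=
    { app := fun V => AddCommGrpCat.ofHom
        { toFun := fun s W h => (P.map h.op).hom s
          map_zero' := by funext W h; exact map_zero _
          map_add' := fun _ _ => by funext W h; exact map_add _ _ _ }
      naturality := fun V W f => AddCommGrpCat.hom_ext <| AddMonoidHom.ext fun s => funext fun W' => funext fun h =>
        congrArg (fun t => t.hom s) (P.map_comp f h.op).symm }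
  haveI : Mono j := by
    have : ∀ V, Mono (j.app V) := fun V => (AddCommGrpCat.mono_iff_injective _).2 fun s s' hs => by
      have h : (P.map (𝟙 V.unop).op).hom s = (P.map (𝟙 V.unop).op).hom s' := congrFun (congrFun hs V.unop) (𝟙 _)
      rwa [op_id, CategoryTheory.Functor.map_id] at h
    exact NatTrans.mono_of_mono_app _
  let ρ := Injective.factorThru (𝟙 P) j
  have hρ : j ≫ ρ = 𝟙 P := Injective.comp_factorThru _ _
  let c : ∀ {W : X.Opens}, (∃ a : X, W ≤ U a) → X := fun h => h.choose
  let w : ∀ (a : X) (W : X.Opens), W ≤ U a → P.obj (op W) := fun a W h =>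
    E.res (le_inf h (Exists.choose_spec (p := fun b : X => W ≤ U b) ⟨a, h⟩))
      (E.inc (g a (c ⟨a, h⟩)))
  let m : ∀ a, P.obj (op (U a)) := fun a => (ρ.app (op (U a))).hom (fun W h => w a W h.le)
  have hw : ∀ a b (W : X.Opens) (k : W ≤ U a ⊓ U b),
      w a W (k.trans inf_le_left) - w b W (k.trans inf_le_right) = E.res k (E.inc (g a b)) := by
    intro a b W k
    let cc := c (W := W) ⟨a, k.trans inf_le_left⟩
    have kc : W ≤ U cc := Exists.choose_spec (p := fun b : X => W ≤ U b) ⟨a, k.trans inf_le_left⟩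
    have e1 := congrArg (fun u => E.inc u) (htrans a b cc W (k.trans inf_le_left) (k.trans inf_le_right) kc)
    simp only [E.inc_mul, ← E.res_inc] at e1
    show E.res _ _ - E.res _ _ = _
    rw [sub_eq_iff_eq_add]
    exact e1
  have hm : ∀ a b, E.res (inf_le_left : U a ⊓ U b ≤ U a) (m a) -
      E.res (inf_le_right : U a ⊓ U b ≤ U b) (m b) = E.inc (g a b) := by
    intro a b
    have n1 := ConcreteCategory.congr_hom (ρ.naturality (homOfLE (inf_le_left : U a ⊓ U b ≤ U a)).op) (fun W h => w a W h.le)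
    have n2 := ConcreteCategory.congr_hom (ρ.naturality (homOfLE (inf_le_right : U a ⊓ U b ≤ U b)).op) (fun W h => w b W h.le)
    refine (congrArg₂ (· - ·) n1.symm n2.symm).trans ?_
    refine (map_sub (ρ.app _).hom _ _).symm.trans ?_
    refine Eq.trans ?_ (ConcreteCategory.congr_hom (congrArg (fun α : P ⟶ P => α.app (op (U a ⊓ U b))) hρ)
      (E.inc (g a b)))
    exact congrArg (ρ.app (op (U a ⊓ U b))).hom (funext₂ fun W k => hw a b W k.le)
  have hcompat : ∀ a b, E.resQ (inf_le_left : U a ⊓ U b ≤ U a) (E.qs _ (m a)) =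
      E.resQ (inf_le_right : U a ⊓ U b ≤ U b) (E.qs _ (m b)) := by
    intro a b
    rw [← sub_eq_zero, ← E.qs_res, ← E.qs_res, ← map_sub, hm, E.qs_inc]
  obtain ⟨z, hz⟩ := E.exists_glueQ U hU _ hcompat
  refine ⟨z, X, U, hU, e, m, he, fun a => (hz a).symm, fun a b W ha hb =>
    ⟨Units.map (resR (le_inf ha hb)).toMonoidHom (g a b), hgW a b W ha hb, ?_⟩⟩
  rw [← E.res_inc, ← hm, map_sub, E.res_res, E.res_res]

/-- A related module to the difference of two sections lifts globally when they are related to the same module. -/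
theorem Rel.exists_lift_sub {z z' : E.Q.obj.obj (op (⊤ : X.Opens))} {L : X.Modules} (h : Rel E z L)
    (h' : Rel E z' L) : ∃ m, E.qs ⊤ m = z - z' := by
  obtain ⟨L', -, hL'⟩ := exists_rel E (-z')
  obtain ⟨φ⟩ := (h'.add E hL').trivial_of_lift E 0 (by rw [map_zero, add_neg_cancel])
  rw [sub_eq_add_neg]
  exact (h.add E hL').exists_lift E φ

variable [PicGrp.Law X]

/-- Modules related to the same section have the same class. -/
theorem Rel.cls_eq {z : E.Q.obj.obj (op (⊤ : X.Opens))} {L L' : X.Modules} (hL : PicF.IsInvertible L)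
    (hL' : PicF.IsInvertible L') (h : Rel E z L) (h' : Rel E z L') : PicGrp.cls L hL = PicGrp.cls L' hL' := by
  obtain ⟨K, hK, hKr⟩ := exists_rel E (-z)
  have key : ∀ (N : X.Modules) (hN : PicF.IsInvertible N), Rel E z N → PicGrp.cls N hN * PicGrp.cls K hK = 1 := by
    intro N hN hNr
    obtain ⟨φ⟩ := (hNr.add E hKr).trivial_of_lift E 0 (by rw [map_zero, add_neg_cancel])
    apply Subtype.ext
    rw [PicGrp.Law.mul_val, PicGrp.Law.one_eq, PicGrp.cls_val, PicGrp.cls_val, PicGrp.mulCl_cl]
    exact Quot.sound ⟨φ⟩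
  exact mul_right_cancel ((key L hL h).trans (key L' hL' h').symm)

/-- The class attached to a section of the quotient. -/
noncomputable def picFun (z : E.Q.obj.obj (op (⊤ : X.Opens))) : PicLoc.PicSet X :=
  PicGrp.cls (exists_rel E z).choose (exists_rel E z).choose_spec.1

theorem picFun_eq {z : E.Q.obj.obj (op (⊤ : X.Opens))} {L : X.Modules} (hL : PicF.IsInvertible L)
    (h : Rel E z L) : picFun E z = PicGrp.cls L hL :=
  Rel.cls_eq E _ hL (exists_rel E z).choose_spec.2 h

/-- The additive map from sections of the quotient to the Picard group. -/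
noncomputable def picHom : E.Q.obj.obj (op (⊤ : X.Opens)) →+ Additive (PicLoc.PicSet X) :=
  AddMonoidHom.mk' (fun z => Additive.ofMul (picFun E z)) fun z z' => by
    show Additive.ofMul _ = Additive.ofMul (picFun E z * picFun E z')
    refine congrArg Additive.ofMul ((picFun_eq E (InvX.isInvertible_tensorMod (exists_rel E z).choose_spec.1
      (exists_rel E z').choose_spec.1) ((exists_rel E z).choose_spec.2.add E (exists_rel E z').choose_spec.2)).trans ?_)
    apply Subtype.ext
    rw [PicGrp.Law.mul_val]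
    rfl

theorem picHom_surjective [Injective E.M.obj] : Function.Surjective (picHom E) := fun c => by
  obtain ⟨L, hL, hc⟩ := PicGrp.exists_eq_cls c.toMul
  obtain ⟨z, hz⟩ := exists_rel_of_invertible E L hL
  exact ⟨z, congrArg Additive.ofMul ((picFun_eq E hL hz).trans hc.symm)⟩

theorem mem_ker_picHom {z : E.Q.obj.obj (op (⊤ : X.Opens))} :
    z ∈ (picHom E).ker ↔ z ∈ (E.qs ⊤).range := by
  rw [AddMonoidHom.mem_ker, AddMonoidHom.mem_range]
  constructor
  · intro hz
    have h1 : picFun E z = 1 := hz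
    rw [PicGrp.Law.one_eq, PicGrp.unitPicSet_eq_cls, picFun, PicGrp.cls_eq_cls_iff] at h1
    obtain ⟨φ⟩ := h1
    exact (exists_rel E z).choose_spec.2.exists_lift E φ
  · rintro ⟨m, hm⟩
    obtain ⟨φ⟩ := (exists_rel E z).choose_spec.2.trivial_of_lift E m hm
    show Additive.ofMul (picFun E z) = Additive.ofMul 1
    refine congrArg Additive.ofMul ?_
    rw [PicGrp.Law.one_eq, PicGrp.unitPicSet_eq_cls]
    exact (PicGrp.cls_eq_cls_iff _ _).2 ⟨φ⟩

end Groth.Agent.ZPic
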